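import Cfsg.Agent.ThCent.Final
import Cfsg.Agent.DCoset.Th.Big

/-!
# Every element of order 7 of Th centralises an involution

With `r = bcdcd` the subgroup `<s, r>` is a Sylow 7-subgroup. Its lines: `<s>` centralises `a`;
`<r s^3>`, `<r s^5>`, `<r s^6>` centralise conjugates of `a` in `<a, b, c, d, e, s, t>`; `r`
centralises the involution `bdUbcduDuDUBu` (`U = u⁻¹`), some element of `<a, …, t>` carries `r` to
`r s`, and `t` carries `r s` to `r s^2` and this to `r s^4`.
-/

set_option autoImplicit false
set_option maxRecDepth 100000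

namespace Cfsg.Agent.ThEnd

open Cfsg.Agent.DCoset Cfsg.Agent.ThCent Subgroup
open Cfsg.Spor.Th (Gen)

attribute [local irreducible] ThMat.uV

/-- A word in the letters of the point model, evaluated in Th. -/
noncomputable def eH (l : List Nat) : Spor.Th := Th.iota (point.wordEl l)

theorem eH_append (l m : List Nat) : eH (l ++ m) = eH l * eH m := by
  rw [eH, eH, eH, point.wordEl_append, map_mul]

theorem eH_conj {x g : List Nat} (hg : ∀ k ∈ g, k < 9) :
    eH (conjW x g) = (eH g)⁻¹ * eH x * eH g := by
  rw [conjW, eH_append, eH_append]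
  congr 2
  rw [eH, eH, point.wordEl_inv g hg, map_inv]

theorem eH_eq {x y : List Nat} (hx : okW x = true) (hy : okW y = true)
    (h : Nat.beq (key x) (key y) = true) : eH x = eH y := by
  rw [eH, eH, point.eq_of_key x y (ThCent.okW_iff x |>.1 hx) (ThCent.okW_iff y |>.1 hy)
    (Nat.eq_of_beq_eq_true h)]

/-- The letters of `r`. -/
def rW : List Nat := [1, 2, 3, 2, 3]

/-- The element `r = bcdcd`. -/
noncomputable def rE : Spor.Th := eH rW

/-- The element `s`. -/
noncomputable def sE : Spor.Th := eH [5]

/-- A centralising involution exists. -/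
def Good (x : Spor.Th) : Prop := ∃ w : Spor.Th, orderOf w = 2 ∧ Commute w x

theorem Good.conj {x : Spor.Th} (h : Good x) (g : Spor.Th) : Good (g⁻¹ * x * g) := by
  obtain ⟨w, hw, hc⟩ := h
  refine ⟨MulAut.conj g⁻¹ w, by rw [MulEquiv.orderOf_eq, hw], ?_⟩
  have := hc.map (MulAut.conj g⁻¹ : Spor.Th ≃* Spor.Th).toMonoidHom
  simpa using this

theorem Good.pow {x : Spor.Th} (h : Good x) (n : ℕ) : Good (x ^ n) := by
  obtain ⟨w, hw, hc⟩ := h
  exact ⟨w, hw, hc.pow_right n⟩

theorem orderOf_a : orderOf (eH [0]) = 2 := by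
  have h2 : eH [0] * eH [0] = 1 := by
    rw [← eH_append]
    refine (eH_eq (y := []) ?_ ?_ ?_).trans ?_
    · decide +kernel
    · decide +kernel
    · decide +kernel
    · simp [eH, Point.wordEl]
  refine orderOf_eq_prime (by rw [pow_two, h2]) fun h => ?_
  have e := point.key_of_eq [0] [] (by decide) (by simp)
    ((Th.exact_of_big Th.big).2.2.2 (h.trans (by simp [Point.wordEl])))
  exact absurd e (by decide +kernel)

theorem good_of_key {x w : List Nat} (hx : okW x = true) (hw : ∀ k ∈ w, k < 9)
    (h : Nat.beq (key (x ++ conjW [0] w)) (key (conjW [0] w ++ x)) = true) : Good (eH x) := by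
  have hc : ∀ k ∈ conjW [0] w, k < 9 := conjW_lt (by decide) hw
  have hx' := (ThCent.okW_iff x).1 hx
  refine ⟨MulAut.conj (eH w)⁻¹ (eH [0]), by rw [MulEquiv.orderOf_eq, orderOf_a], ?_⟩
  have e : eH (x ++ conjW [0] w) = eH (conjW [0] w ++ x) := by
    rw [eH, eH, point.eq_of_key _ _
      (fun k hk => (List.mem_append.1 hk).elim (hx' k) (hc k))
      (fun k hk => (List.mem_append.1 hk).elim (hc k) (hx' k)) (Nat.eq_of_beq_eq_true h)]
  rw [eH_append, eH_append, eH_conj hw] at e
  show MulAut.conj (eH w)⁻¹ (eH [0]) * eH x = eH x * MulAut.conj (eH w)⁻¹ (eH [0])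
  simpa using e.symm

/-- The involution centralising `r`, in the letters of the representation. -/
def iW : List Nat := [1, 3, 10, 1, 2, 3, 7, 3, 7, 3, 10, 1, 7]

/-- A letter of the representation in Th. -/
def letG : Nat → Spor.Th
  | 0 => PresentedGroup.of .a
  | 1 => PresentedGroup.of .b
  | 2 => PresentedGroup.of .c
  | 3 => PresentedGroup.of .d
  | 4 => PresentedGroup.of .e
  | 5 => PresentedGroup.of .s
  | 6 => PresentedGroup.of .t
  | 7 => PresentedGroup.of .u
  | 8 => (PresentedGroup.of .s)⁻¹
  | 9 => (PresentedGroup.of .t)⁻¹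
  | _ => (PresentedGroup.of .u)⁻¹

theorem thRep_letG {x : Nat} (h : x < 11) : ThMat.thRep (letG x) = ThMat.uV x := by
  have hg : ∀ g : Gen, ThMat.thRep (PresentedGroup.of g) = ThMat.uV (ThMat.code (g, true)) :=
    fun g => PresentedGroup.toGroup.of ThMat.th_rels
  interval_cases x
  · exact hg .a
  · exact hg .b
  · exact hg .c
  · exact hg .d
  · exact hg .e
  · exact hg .s
  · exact hg .t
  · exact hg .u
  · rw [show letG 8 = (PresentedGroup.of Gen.s)⁻¹ from rfl, map_inv, hg .s,
      show ThMat.code (Gen.s, true) = 5 from rfl, ← ThMat.uV_invL (by norm_num : (5 : Nat) < 11),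
      show ThMat.invL 5 = 8 from rfl]
  · rw [show letG 9 = (PresentedGroup.of Gen.t)⁻¹ from rfl, map_inv, hg .t,
      show ThMat.code (Gen.t, true) = 6 from rfl, ← ThMat.uV_invL (by norm_num : (6 : Nat) < 11),
      show ThMat.invL 6 = 9 from rfl]
  · rw [show letG 10 = (PresentedGroup.of Gen.u)⁻¹ from rfl, map_inv, hg .u,
      show ThMat.code (Gen.u, true) = 7 from rfl, ← ThMat.uV_invL (by norm_num : (7 : Nat) < 11),
      show ThMat.invL 7 = 10 from rfl]

theorem coe_word : ∀ l : List Nat, (∀ x ∈ l, x < 11) →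
    ((ThMat.thRep (l.map letG).prod : GL (Fin 248) (ZMod 3)) : Matrix (Fin 248) (Fin 248) (ZMod 3)) =
      (l.map ThMat.mV).prod
  | [], _ => by simp
  | x :: l, h => by
    rw [List.map_cons, List.prod_cons, map_mul, Units.val_mul,
      coe_word l fun y hy => h y (List.mem_cons_of_mem _ hy), thRep_letG (h x List.mem_cons_self),
      ThMat.coe_uV (h x List.mem_cons_self), List.map_cons, List.prod_cons]

theorem thRep_injective : Function.Injective ThMat.thRep := by
  have := Th.simple_of_big Th.big
  rcases Subgroup.Normal.eq_bot_or_eq_top (MonoidHom.normal_ker ThMat.thRep) with h | h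
  · exact (MonoidHom.ker_eq_bot_iff _).1 h
  · exfalso
    have hd := ThMat.card_dvd
    rw [MonoidHom.range_eq_bot_iff.2 (MonoidHom.ker_eq_top_iff.1 h), Subgroup.card_bot,
      Nat.dvd_one] at hd
    norm_num at hd

theorem relW_one {l : List Nat} (hl : ∀ x ∈ l, x < 11)
    (h0 : ThMat.relC l (62 * 0) = true) (h1 : ThMat.relC l (62 * 1) = true)
    (h2 : ThMat.relC l (62 * 2) = true) (h3 : ThMat.relC l (62 * 3) = true) :
    (l.map letG).prod = 1 := by
  refine thRep_injective (Units.ext ?_)
  rw [map_one, Units.val_one, coe_word l hl]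
  refine ThMat.relC_spec fun c hc => ?_
  interval_cases c <;> assumption

theorem iW_sq : ((iW ++ iW).map letG).prod = 1 :=
  relW_one (by decide) (by decide +kernel) (by decide +kernel) (by decide +kernel) (by decide +kernel)

theorem iW_r : ((iW ++ rW ++ iW ++ [3, 2, 3, 2, 1]).map letG).prod = 1 :=
  relW_one (by decide) (by decide +kernel) (by decide +kernel) (by decide +kernel) (by decide +kernel)

theorem e0_ok : ThMat.rowC 1 = true := by decide +kernel

theorem iW_moves : Nat.beq (ThMat.rowW ThMat.mask248 ThMat.mth iW 1) 1 = false := by decide +kernel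

theorem iW_ne : (iW.map letG).prod ≠ 1 := by
  intro h
  have hp : (iW.map ThMat.mV).prod = 1 := by
    rw [← coe_word iW (by decide), h, map_one, Units.val_one]
  obtain ⟨hr, hv⟩ := ThMat.row_spec' (ThMat.rowOK_of_check e0_ok) iW
  rw [hp, Matrix.vecMul_one] at hv
  have hb := iW_moves
  rw [ThMat.vec_inj hr (ThMat.rowOK_of_check e0_ok) hv, Nat.beq_refl] at hb
  exact Bool.noConfusion hb

theorem rE_letG : rE = (rW.map letG).prod := by
  have e1 := iota_el (g := 1) (b := 1) rfl
  have e2 := iota_el (g := 2) (b := 2) rfl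
  have e3 := iota_el (g := 3) (b := 3) rfl
  simp only [rE, eH, rW, Point.wordEl, List.map_cons, List.map_nil, List.prod_cons, List.prod_nil,
    map_mul, map_one]
  rw [show (Fin.ofNat 9 1) = (1 : Fin 9) from rfl, show (Fin.ofNat 9 2) = (2 : Fin 9) from rfl,
    show (Fin.ofNat 9 3) = (3 : Fin 9) from rfl, e1, e2, e3]
  rfl

theorem thGen_sq {g : Gen} (h : (FreeGroup.of g) ^ 2 ∈ Spor.Th.extra) :
    (PresentedGroup.of g : Spor.Th)⁻¹ = PresentedGroup.of g :=
  inv_eq_of_mul_eq_one_right (ThCent.th_sq h)

theorem good_r : Good rE := by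
  set i := (iW.map letG).prod with hi
  have h2 : i * i = 1 := by rw [hi, ← List.prod_append, ← List.map_append, iW_sq]
  refine ⟨i, orderOf_eq_prime (by rw [pow_two, h2]) iW_ne, ?_⟩
  have h := iW_r
  rw [List.map_append, List.map_append, List.map_append, List.prod_append, List.prod_append,
    List.prod_append, ← hi, ← rE_letG] at h
  have hinv : ([3, 2, 3, 2, 1].map letG).prod = rE⁻¹ := by
    rw [rE_letG]
    simp only [rW, List.map_cons, List.map_nil, List.prod_cons, List.prod_nil, mul_one, letG,
      mul_inv_rev, thGen_sq (g := .b) (by simp [Spor.Th.extra]),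
      thGen_sq (g := .c) (by simp [Spor.Th.extra]), thGen_sq (g := .d) (by simp [Spor.Th.extra]),
      mul_assoc]
  rw [hinv, mul_inv_eq_one] at h
  calc i * rE = i * rE * (i * i) := by rw [h2, mul_one]
    _ = i * rE * i * i := by group
    _ = rE * i := by rw [h]

/-- The letters of `r s^k`. -/
def kW (k : ℕ) : List Nat := rW ++ List.replicate k 5

theorem eH_replicate : ∀ k : ℕ, eH (List.replicate k 5) = sE ^ k
  | 0 => by simp [eH, Point.wordEl]
  | k + 1 => by
    rw [List.replicate_succ, show (5 :: List.replicate k 5) = [5] ++ List.replicate k 5 from rfl,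
      eH_append, eH_replicate k, pow_succ']
    rfl

theorem eH_kW (k : ℕ) : eH (kW k) = rE * sE ^ k := by
  rw [kW, eH_append, eH_replicate]
  rfl

theorem good_step {x y g : List Nat} (h : Good (eH x)) (hg : okW g = true)
    (hx : okW x = true) (hy : okW y = true) (hk : Nat.beq (key (x ++ g)) (key (g ++ y)) = true) :
    Good (eH y) := by
  have hx' := (ThCent.okW_iff x).1 hx
  have hy' := (ThCent.okW_iff y).1 hy
  have hg' := (ThCent.okW_iff g).1 hg
  have e : eH (x ++ g) = eH (g ++ y) := by
    rw [eH, eH, point.eq_of_key _ _ (fun k hk => (List.mem_append.1 hk).elim (hx' k) (hg' k))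
      (fun k hk => (List.mem_append.1 hk).elim (hg' k) (hy' k)) (Nat.eq_of_beq_eq_true hk)]
  rw [eH_append, eH_append] at e
  rw [show eH y = (eH g)⁻¹ * eH x * eH g by rw [mul_assoc, e, inv_mul_cancel_left]]
  exact h.conj _

/-- The element `abedcbSedcseSDCDEsDBCDEC` carrying `r` to `r s`. -/
def gW : List Nat := [0, 1, 4, 3, 2, 1, 6, 4, 3, 2, 5, 4, 6, 3, 2, 3, 4, 5, 3, 1, 2, 3, 4, 2]

theorem good_line (k : Fin 7) : Good (rE * sE ^ k.val) := by
  rw [← eH_kW]
  have h0 : Good (eH (kW 0)) := by rw [eH_kW, pow_zero, mul_one]; exact good_r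
  have h1 : Good (eH (kW 1)) := good_step h0 (g := gW) (by decide +kernel) (by decide +kernel)
    (by decide +kernel) (by decide +kernel)
  have h2 : Good (eH (kW 2)) := good_step h1 (g := [7]) (by decide +kernel) (by decide +kernel)
    (by decide +kernel) (by decide +kernel)
  fin_cases k
  · exact h0
  · exact h1
  · exact h2
  · exact good_of_key (w := [1, 2, 3, 2, 4, 3, 2, 5, 5, 4]) (by decide +kernel) (by decide)
      (by decide +kernel)
  · exact good_step h2 (g := [7]) (by decide +kernel) (by decide +kernel) (by decide +kernel)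
      (by decide +kernel)
  · exact good_of_key (w := [1, 2, 3, 2, 4, 3, 2, 5, 4]) (by decide +kernel) (by decide)
      (by decide +kernel)
  · exact good_of_key (w := [1, 0, 2, 3, 2, 4, 3, 2, 6, 4]) (by decide +kernel) (by decide)
      (by decide +kernel)

/-- The letters of `s^i r^j`. -/
def ijW (p : Fin 7 × Fin 7) : List Nat :=
  List.replicate p.1.val 5 ++ (List.replicate p.2.val rW).flatten

theorem eH_ijW (p : Fin 7 × Fin 7) : eH (ijW p) = sE ^ p.1.val * rE ^ p.2.val := by
  have hr : ∀ k : ℕ, eH ((List.replicate k rW).flatten) = rE ^ k := by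
    intro k
    induction k with
    | zero => simp [eH, Point.wordEl]
    | succ k ih => rw [List.replicate_succ, List.flatten_cons, eH_append, ih, pow_succ']; rfl
  rw [ijW, eH_append, eH_replicate, hr]

/-- The keys of the 49 products. -/
noncomputable def keys : List Nat :=
  ((List.finRange 7).flatMap fun i => (List.finRange 7).map fun j => key (ijW (i, j)))

/-- No number is repeated. -/
noncomputable def distinctB : List Nat → Bool :=
  List.rec true fun x l ih => (List.rec (motive := fun _ => Bool) true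
    (fun y _ r => !(Nat.beq x y) && r) l) && ih

theorem distinctB_cons (x : Nat) (l : List Nat) :
    distinctB (x :: l) = ((List.rec (motive := fun _ => Bool) true
      (fun y _ r => !(Nat.beq x y) && r) l) && distinctB l) := rfl

theorem distinctB_nodup : ∀ {l : List Nat}, distinctB l = true → l.Nodup
  | [], _ => List.nodup_nil
  | x :: l, h => by
    rw [distinctB_cons, Bool.and_eq_true] at h
    refine List.nodup_cons.2 ⟨?_, distinctB_nodup h.2⟩
    have : ∀ m : List Nat, (List.rec (motive := fun _ => Bool) true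
        (fun y _ r => !(Nat.beq x y) && r) m) = true → x ∉ m := by
      intro m
      induction m with
      | nil => simp
      | cons y m ih =>
        intro hm hmem
        simp only [Bool.and_eq_true, Bool.not_eq_true'] at hm
        rcases List.mem_cons.1 hmem with rfl | hmem
        · rw [Nat.beq_refl] at hm; exact Bool.noConfusion hm.1
        · exact ih hm.2 hmem
    exact this l h.1

theorem keys_distinct : distinctB keys = true := by decide +kernel

theorem rW_low : ∀ p : Fin 7 × Fin 7, okW (ijW p) = true := by decide +kernel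

theorem ij_injective : Function.Injective fun p : Fin 7 × Fin 7 => eH (ijW p) := by
  intro p q h
  have hk := point.key_of_eq (ijW p) (ijW q) ((ThCent.okW_iff _).1 (rW_low p))
    ((ThCent.okW_iff _).1 (rW_low q)) ((Th.exact_of_big Th.big).2.2.2 h)
  have hn : (((List.finRange 7).product (List.finRange 7)).map fun p => key (ijW p)).Nodup := by
    have e : ((List.finRange 7).product (List.finRange 7)).map (fun p => key (ijW p)) = keys := by
      simp [keys, List.product, List.map_flatMap, Function.comp_def]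
    rw [e]
    exact distinctB_nodup keys_distinct
  exact List.inj_on_of_nodup_map hn (List.mem_product.2 ⟨List.mem_finRange _, List.mem_finRange _⟩)
    (List.mem_product.2 ⟨List.mem_finRange _, List.mem_finRange _⟩) hk

theorem sE_pow : sE ^ 7 = 1 := by
  rw [← eH_replicate]
  refine (eH_eq (y := []) ?_ ?_ ?_).trans ?_
  · decide +kernel
  · decide +kernel
  · decide +kernel
  · simp [eH, Point.wordEl]

theorem rE_pow : rE ^ 7 = 1 := by
  have e : eH ((List.replicate 7 rW).flatten) = 1 := by
    refine (eH_eq (y := []) ?_ ?_ ?_).trans ?_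
    · decide +kernel
    · decide +kernel
    · decide +kernel
    · simp [eH, Point.wordEl]
  simpa [List.replicate_succ, List.flatten_cons, eH_append, pow_succ', ← mul_assoc, rE,
    eH, Point.wordEl] using e

theorem comm_sr : Commute sE rE := by
  have e : eH ([5] ++ rW) = eH (rW ++ [5]) :=
    eH_eq (by decide +kernel) (by decide +kernel) (by decide +kernel)
  rw [eH_append, eH_append] at e
  exact e

/-- The homomorphism onto `<s, r>`. -/
noncomputable def srHom : Multiplicative ℤ × Multiplicative ℤ →* Spor.Th :=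
  MonoidHom.noncommCoprod (zpowersHom Spor.Th sE) (zpowersHom Spor.Th rE) fun m n => by
    simp only [zpowersHom_apply]
    exact comm_sr.zpow_zpow _ _

theorem srHom_apply (m : Multiplicative ℤ × Multiplicative ℤ) :
    srHom m = sE ^ m.1.toAdd * rE ^ m.2.toAdd := rfl

theorem srHom_pow (x : srHom.range) : x ^ 7 = 1 := by
  obtain ⟨_, m, rfl⟩ := x
  refine Subtype.ext ?_
  show srHom m ^ 7 = 1
  rw [srHom_apply, (comm_sr.zpow_zpow _ _).mul_pow, ← zpow_natCast, ← zpow_natCast,
    ← zpow_mul, ← zpow_mul, mul_comm m.1.toAdd, mul_comm m.2.toAdd, zpow_mul, zpow_mul,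
    zpow_natCast, zpow_natCast, sE_pow, rE_pow, one_zpow, one_zpow, one_mul]

theorem sylow_form {x : Spor.Th} (hx : x ^ 7 = 1) :
    ∃ (g : Spor.Th) (i j : Fin 7), g⁻¹ * x * g = sE ^ i.val * rE ^ j.val := by
  have := Th.th_finite.1
  have : Fact (Nat.Prime 7) := ⟨by norm_num⟩
  have hK : IsPGroup 7 srHom.range := fun y => ⟨1, by rw [pow_one]; exact srHom_pow y⟩
  obtain ⟨S, hS⟩ := hK.exists_le_sylow
  have hmem : ∀ p : Fin 7 × Fin 7, eH (ijW p) ∈ (S : Subgroup Spor.Th) := fun p =>
    hS ⟨(Multiplicative.ofAdd (p.1.val : ℤ), Multiplicative.ofAdd (p.2.val : ℤ)), by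
      rw [srHom_apply, eH_ijW]; simp⟩
  let f : Fin 7 × Fin 7 → (S : Subgroup Spor.Th) := fun p => ⟨eH (ijW p), hmem p⟩
  have hfi : Function.Injective f := fun p q h => ij_injective (congrArg Subtype.val h)
  have hcard : Nat.card (S : Subgroup Spor.Th) = 49 := by
    rw [Sylow.card_eq_multiplicity, (Th.exact_of_big Th.big).1,
      show (90745943887872000 : ℕ) = 7 ^ 2 * 1851958038528000 by norm_num,
      Nat.factorization_mul (by norm_num) (by norm_num), Finsupp.add_apply,
      Nat.Prime.factorization_pow (by norm_num : Nat.Prime 7), Finsupp.single_eq_same,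
      Nat.factorization_eq_zero_of_not_dvd (by norm_num : ¬ 7 ∣ 1851958038528000)]
    norm_num
  have hfb : Function.Bijective f :=
    (Nat.bijective_iff_injective_and_card f).2 ⟨hfi, by rw [hcard]; simp⟩
  have hz : IsPGroup 7 (zpowers x) := by
    rcases (Nat.dvd_prime (by norm_num : Nat.Prime 7)).1 (orderOf_dvd_of_pow_eq_one hx) with h | h
    · exact IsPGroup.of_card (n := 0) (by rw [Nat.card_zpowers, h, pow_zero])
    · exact IsPGroup.of_card (n := 1) (by rw [Nat.card_zpowers, h, pow_one])
  obtain ⟨T, hT⟩ := hz.exists_le_sylow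
  obtain ⟨g, hg⟩ := MulAction.exists_smul_eq Spor.Th T S
  have hxS : g * x * g⁻¹ ∈ (S : Subgroup Spor.Th) := by
    rw [← hg, Sylow.coe_subgroup_smul]
    exact ⟨x, hT (mem_zpowers x), by simp⟩
  obtain ⟨⟨i, j⟩, hij⟩ := hfb.2 ⟨_, hxS⟩
  refine ⟨g⁻¹, i, j, ?_⟩
  rw [inv_inv, ← eH_ijW (i, j)]
  exact (congrArg Subtype.val hij).symm

theorem good_ij : ∀ i j : Fin 7, Good (sE ^ i.val * rE ^ j.val) := by
  intro i j
  obtain ⟨k, hk⟩ : ∃ k : Fin 7, j.val = 0 ∨ (k.val * j.val) % 7 = i.val := by
    revert i j; decide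
  rcases hk with h | h
  · refine ⟨eH [0], orderOf_a, ?_⟩
    rw [h, pow_zero, mul_one]
    refine Commute.pow_right ?_ _
    have e : eH ([0] ++ [5]) = eH ([5] ++ [0]) :=
      eH_eq (by decide +kernel) (by decide +kernel) (by decide +kernel)
    rw [eH_append, eH_append] at e
    exact e
  · have e : sE ^ i.val = sE ^ (k.val * j.val) := by
      rw [← h, ← Nat.mod_add_div (k.val * j.val) 7, pow_add, pow_mul sE 7, sE_pow, one_pow, mul_one,
        Nat.add_mul_mod_self_left, Nat.mod_mod]
    rw [e, show sE ^ (k.val * j.val) * rE ^ j.val = (rE * sE ^ k.val) ^ j.val by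
      rw [(comm_sr.symm.pow_right _).mul_pow, ← pow_mul, (comm_sr.pow_pow _ _).eq]]
    exact (good_line k).pow _

/-- Every element of order 7 centralises an involution. -/
theorem seven (x : Spor.Th) (hx : orderOf x = 7) : ∃ w : Spor.Th, orderOf w = 2 ∧ Commute w x := by
  obtain ⟨g, i, j, h⟩ := sylow_form (x := x) (by rw [← hx, pow_orderOf_eq_one])
  have := (good_ij i j).conj g⁻¹
  rw [← h] at this
  exact (show Good x by simpa [mul_assoc] using this)

end Cfsg.Agent.ThEnd
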