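import Cfsg.Agent.ThEnd.Strong
import Cfsg.Agent.ThEnd.Seven

/-!
# A group containing Th together with the centraliser of its involution is Th
-/

set_option autoImplicit false
set_option maxRecDepth 100000

namespace Cfsg.Agent.ThEnd

open Cfsg.Agent.DCoset Cfsg.Agent.ThCent
open Cfsg.Spor.Th (Gen)

/-- The involution `a` of Th. -/
noncomputable abbrev aE : Spor.Th := PresentedGroup.of Gen.a

theorem za_eq : (thCfg Th.big).ι (thCfg Th.big).P.za = aE :=
  iota_el (g := 0) (b := 0) rfl

theorem orderOf_aE : orderOf aE = 2 := by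
  have := Th.th_finite.1
  exact za_eq ▸ (thCfg Th.big).structure_centralizer.1

theorem card_centralizer_aE :
    Nat.card (Subgroup.centralizer ({aE} : Set Spor.Th)) = 92897280 := by
  have := Th.th_finite.1
  obtain ⟨-, Q, hn, hQ, -, ⟨e⟩⟩ := (thCfg Th.big).structure_centralizer
  rw [← za_eq, Subgroup.card_eq_card_quotient_mul_card_subgroup Q, Nat.card_congr e.toEquiv,
    ThCent.card_alt9, hQ]
  norm_num

theorem index_aE : (Subgroup.centralizer ({aE} : Set Spor.Th)).index = 976841775 := by
  have h := (Subgroup.centralizer ({aE} : Set Spor.Th)).card_mul_index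
  rw [card_centralizer_aE, (Th.exact_of_big Th.big).1] at h
  omega

/-- A group generated like this is Th: the map is surjective. -/
theorem surjective {G : Type*} [Group G] [Finite G]
    (hR : ∀ x : Spor.Th, orderOf x = 2 → IsConj x aE) (θ : Spor.Th →* G)
    (hC : Subgroup.centralizer ({θ aE} : Set G) ≤ θ.range) (hne : θ aE ≠ 1)
    (hcard : Nat.card (Subgroup.centralizer ({θ aE} : Set G)) = 92897280) :
    Function.Bijective θ := by
  have hinj : Function.Injective θ := by
    have := Th.simple_of_big Th.big
    rcases Subgroup.Normal.eq_bot_or_eq_top (MonoidHom.normal_ker θ) with h | h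
    · exact (MonoidHom.ker_eq_bot_iff _).1 h
    · exact absurd (MonoidHom.mem_ker.1 (h ▸ Subgroup.mem_top aE)) hne
  exact ⟨hinj, MonoidHom.range_eq_top.1 (range_eq_top hinj orderOf_aE hC hR seven
    (by rw [index_aE]; norm_num) (by rw [hcard]; norm_num))⟩

end Cfsg.Agent.ThEnd
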