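import Cfsg.Agent.Invol.SEPairs
import Mathlib.GroupTheory.Perm.Cycle.Type
import Mathlib.GroupTheory.Sylow

/-!
# A subgroup containing the centralisers of its involutions is everything

`R` has one class of involutions, the centraliser of an involution has an order not divisible by 49
but an index divisible by 7, and every element of order 7 centralises an involution. If such a group
is embedded in a group and contains the centraliser of one of its involutions,
it is the whole group: otherwise it is strongly embedded, and the subgroup of odd order which is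
transitive on its involutions has an element of order 7 inverted by an involution outside.
-/

set_option autoImplicit false

namespace Cfsg.Agent.ThEnd

variable {G : Type*} [Group G] [Finite G]

/-- An element inverted by an involution outside commutes with no involution inside. -/
theorem no_inverted {H : Subgroup G} (hH : Cfsg.IsStronglyEmbedded H) {t u f : G}
    (ht : orderOf t = 2) (htH : t ∈ H) (hu : orderOf u = 2) (huH : u ∉ H)
    (htf : t * f = f * t) (huf : u * f * u⁻¹ = f⁻¹) : f * f = 1 := by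
  obtain ⟨m, hm⟩ := Invol.se_odd_of_mem_of_notMem hH ht htH hu huH
  have e1 : ∀ g : G, t * u * g * (t * u)⁻¹ = t * (u * g * u⁻¹) * t⁻¹ := fun g => by group
  have hf : t * u * f * (t * u)⁻¹ = f⁻¹ := by
    rw [e1, huf]
    have hc : Commute t f := htf
    rw [hc.inv_right.eq, mul_inv_cancel_right]
  have hf' : t * u * f⁻¹ * (t * u)⁻¹ = f := by
    rw [show t * u * f⁻¹ * (t * u)⁻¹ = (t * u * f * (t * u)⁻¹)⁻¹ by group, hf, inv_inv]
  have key : ∀ k : ℕ, (t * u) ^ (2 * k + 1) * f * ((t * u) ^ (2 * k + 1))⁻¹ = f⁻¹ := by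
    intro k
    induction k with
    | zero => simpa using hf
    | succ k ih =>
      generalize t * u = w at ih hf hf' ⊢
      calc w ^ (2 * (k + 1) + 1) * f * (w ^ (2 * (k + 1) + 1))⁻¹
          = w * (w * (w ^ (2 * k + 1) * f * (w ^ (2 * k + 1))⁻¹) * w⁻¹) * w⁻¹ := by
            rw [show 2 * (k + 1) + 1 = (2 * k + 1) + 1 + 1 by ring, pow_succ', pow_succ']
            simp only [mul_inv_rev, mul_assoc]
        _ = f⁻¹ := by rw [ih, hf', hf]
  have h := key m
  rw [← hm, pow_orderOf_eq_one, one_mul, inv_one, mul_one] at h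
  nth_rewrite 2 [h]
  exact mul_inv_cancel f

omit [Finite G] in
/-- The number of conjugates of `z` under a subgroup transitive on a set of them. -/
theorem index_eq_card (J : Set G) (K : Subgroup G) (z : G) (hJ : ∀ k ∈ K, k * z * k⁻¹ ∈ J)
    (htr : ∀ t ∈ J, ∃ k ∈ K, k * z * k⁻¹ = t) :
    ((Subgroup.centralizer ({z} : Set G)).subgroupOf K).index = Nat.card J := by
  set S := (Subgroup.centralizer ({z} : Set G)).subgroupOf K with hS
  have hmem : ∀ k : K, k ∈ S ↔ (k : G) * z = z * k := fun k => by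
    rw [hS, Subgroup.mem_subgroupOf, Subgroup.mem_centralizer_singleton_iff]
  let f : K ⧸ S → J := Quotient.lift (fun k : K => (⟨k * z * (k : G)⁻¹, hJ k k.2⟩ : J)) (by
    intro a b hab
    have h := (hmem _).1 (QuotientGroup.leftRel_apply.1 hab)
    refine Subtype.ext ?_
    show (a : G) * z * (a : G)⁻¹ = b * z * (b : G)⁻¹
    simp only [Subgroup.coe_mul, InvMemClass.coe_inv] at h
    calc (a : G) * z * (a : G)⁻¹ = a * (z * ((a : G)⁻¹ * b)) * (b : G)⁻¹ := by group
      _ = a * ((a : G)⁻¹ * b * z) * (b : G)⁻¹ := by rw [h]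
      _ = _ := by group)
  rw [Subgroup.index]
  refine Nat.card_eq_of_bijective f ⟨?_, fun t => ?_⟩
  · intro x y
    induction x using Quotient.inductionOn with
    | h a =>
      induction y using Quotient.inductionOn with
      | h b =>
        intro he
        have he' : (a : G) * z * (a : G)⁻¹ = b * z * (b : G)⁻¹ := congrArg Subtype.val he
        refine QuotientGroup.eq.2 ((hmem _).2 ?_)
        simp only [Subgroup.coe_mul, InvMemClass.coe_inv]
        calc (a : G)⁻¹ * b * z = (a : G)⁻¹ * (b * z * (b : G)⁻¹) * b := by group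
          _ = (a : G)⁻¹ * (a * z * (a : G)⁻¹) * b := by rw [he']
          _ = _ := by group
  · obtain ⟨k, hk, hkt⟩ := htr t t.2
    exact ⟨QuotientGroup.mk ⟨k, hk⟩, Subtype.ext hkt⟩

/-- The embedded group is everything. -/
theorem range_eq_top {R : Type*} [Group R] {θ : R →* G} (hθ : Function.Injective θ) {a : R}
    (ha : orderOf a = 2) (hC : Subgroup.centralizer ({θ a} : Set G) ≤ θ.range)
    (hR : ∀ x : R, orderOf x = 2 → IsConj x a)
    (h7 : ∀ x : R, orderOf x = 7 → ∃ t : R, orderOf t = 2 ∧ Commute t x)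
    (hdvd : 7 ∣ (Subgroup.centralizer ({a} : Set R)).index)
    (hCard : ¬ 49 ∣ Nat.card (Subgroup.centralizer ({θ a} : Set G))) : θ.range = ⊤ := by
  classical
  have : Fact (Nat.Prime 7) := ⟨by norm_num⟩
  have : Fact (Nat.Prime 2) := ⟨Nat.prime_two⟩
  have oc : ∀ k x : G, orderOf (k * x * k⁻¹) = orderOf x := fun k x =>
    (MulAut.conj k).orderOf_eq x
  have hz : orderOf (θ a) = 2 := (orderOf_injective θ hθ a).trans ha
  set H := θ.range with hH
  by_contra hne
  have hzH : θ a ∈ H := ⟨a, rfl⟩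
  have hcomm : ∀ g : G, g * θ a = θ a * g → g ∈ H := fun g hg =>
    hC (Subgroup.mem_centralizer_singleton_iff.2 hg)
  have hinv : ∀ t : G, orderOf t = 2 → t ∈ H → ∃ p : R, θ p * θ a * (θ p)⁻¹ = t := by
    rintro t ht ⟨x, rfl⟩
    obtain ⟨p, hp⟩ := isConj_iff.1 (hR x ((orderOf_injective θ hθ x).symm.trans ht)).symm
    exact ⟨p, by rw [← map_inv, ← map_mul, ← map_mul, hp]⟩
  have hin : ∀ t g : G, orderOf t = 2 → t ∈ H → g⁻¹ * t * g ∈ H → g ∈ H := by
    intro t g ht htH htg
    obtain ⟨p, hp⟩ := hinv t ht htH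
    obtain ⟨q, hq⟩ := hinv _ (by
      have := oc g⁻¹ t
      rw [inv_inv] at this
      exact this.trans ht) htg
    have h : (θ p)⁻¹ * g * θ q ∈ H := hcomm _ (by
      calc (θ p)⁻¹ * g * θ q * θ a = (θ p)⁻¹ * g * (θ q * θ a * (θ q)⁻¹) * θ q := by group
        _ = (θ p)⁻¹ * g * (g⁻¹ * (θ p * θ a * (θ p)⁻¹) * g) * θ q := by rw [hq, hp]
        _ = _ := by group)
    have := H.mul_mem (H.mul_mem (⟨p, rfl⟩ : θ p ∈ H) h) (H.inv_mem ⟨q, rfl⟩)
    simpa [mul_assoc] using this
  have hSE : Cfsg.IsStronglyEmbedded H := by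
    refine (Invol.se_iff H).2 ⟨hne, ?_, hin⟩
    rw [even_iff_two_dvd, ← hz, ← Subgroup.orderOf_mk (H := H) (θ a) hzH]
    exact orderOf_dvd_natCard _
  obtain ⟨g, hg⟩ : ∃ g : G, g ∉ H := by
    by_contra! hall
    exact hne (eq_top_iff.2 fun x _ => hall x)
  set u := g * θ a * g⁻¹ with hudef
  have hu : orderOf u = 2 := (oc g (θ a)).trans hz
  have huH : u ∉ H := fun h => hg (by
    have := hin (θ a) g⁻¹ hz hzH (by rwa [inv_inv])
    exact inv_mem_iff.1 this)
  set D := H ⊓ H.map (MulAut.conj u).toMonoidHom with hD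
  have hDodd : Odd (Nat.card D) := hSE.2.2 u huH
  set J : Set G := {t | orderOf t = 2 ∧ t ∈ H} with hJ
  have hJmem : ∀ k ∈ H, k * θ a * k⁻¹ ∈ J := fun k hk =>
    ⟨(oc k (θ a)).trans hz, H.mul_mem (H.mul_mem hk hzH) (H.inv_mem hk)⟩
  set C := Subgroup.centralizer ({θ a} : Set G) with hCdef
  have hH' : (C.subgroupOf H).index = Nat.card J := index_eq_card J H (θ a) hJmem fun t ht => by
    obtain ⟨p, hp⟩ := hinv t ht.1 ht.2
    exact ⟨θ p, ⟨p, rfl⟩, hp⟩
  have hD' : (C.subgroupOf D).index = Nat.card J :=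
    index_eq_card J D (θ a) (fun k hk => hJmem k hk.1) fun t ht =>
      Invol.se_inter_transitive hSE hu huH hz hzH ht.1 ht.2
  have hR' : C.comap θ = Subgroup.centralizer ({a} : Set R) := by
    ext x
    rw [Subgroup.mem_comap, hCdef, Subgroup.mem_centralizer_singleton_iff,
      Subgroup.mem_centralizer_singleton_iff, ← map_mul, ← map_mul, hθ.eq_iff]
  have hJ7 : 7 ∣ Nat.card J := by
    rw [← hH']
    show 7 ∣ C.relIndex θ.range
    rw [← Subgroup.index_comap, hR']
    exact hdvd
  have hDmul : Nat.card (C.subgroupOf D) * Nat.card J = Nat.card D := by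
    rw [← hD', Subgroup.card_mul_index]
  -- conjugation by `u` on `D`
  have huD : ∀ x ∈ D, u * x * u⁻¹ ∈ D := by
    rintro x ⟨hx1, hx2⟩
    have h2 := Invol.mem_map_conj_iff.1 hx2
    rw [Invol.inv_eq_self hu] at h2 ⊢
    refine ⟨h2, Invol.mem_map_conj_iff.2 ?_⟩
    rw [Invol.inv_eq_self hu]
    simp only [← mul_assoc, Invol.mul_self_eq_one hu, one_mul]
    rw [mul_assoc, Invol.mul_self_eq_one hu, mul_one]
    exact hx1
  have huu : ∀ x : G, u * (u * x * u⁻¹) * u⁻¹ = x := fun x => by
    calc u * (u * x * u⁻¹) * u⁻¹ = (u * u) * x * (u * u)⁻¹ := by group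
      _ = x := by rw [Invol.mul_self_eq_one hu, inv_one, one_mul, mul_one]
  let φ : MulAut D :=
    { toFun := fun x => ⟨u * x * u⁻¹, huD x x.2⟩
      invFun := fun x => ⟨u * x * u⁻¹, huD x x.2⟩
      left_inv := fun x => Subtype.ext (huu x)
      right_inv := fun x => Subtype.ext (huu x)
      map_mul' := fun x y => Subtype.ext (by simp [mul_assoc]) }
  have hfs : Fintype (Sylow 7 D) := Fintype.ofFinite _
  have hodd : ¬ 2 ∣ Fintype.card (Sylow 7 D) := by
    rw [← Nat.card_eq_fintype_card]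
    intro h2
    exact (Nat.not_even_iff_odd.2 hDodd) (even_iff_two_dvd.2
      (h2.trans ((Sylow.card_dvd_index (default : Sylow 7 D)).trans (Subgroup.index_dvd_card _))))
  have hsq : (MulAction.toPerm φ : Equiv.Perm (Sylow 7 D)) ^ 2 ^ 1 = 1 := by
    refine Equiv.ext fun Q => ?_
    rw [pow_one, pow_two, Equiv.Perm.mul_apply, Equiv.Perm.one_apply, MulAction.toPerm_apply,
      MulAction.toPerm_apply, ← mul_smul,
      show φ * φ = 1 from MulEquiv.ext fun x => Subtype.ext (huu x), one_smul]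
  obtain ⟨P, hP⟩ := Equiv.Perm.exists_fixed_point_of_prime (p := 2) (n := 1) hodd hsq
  have hφP : ∀ x ∈ (P : Subgroup D), φ x ∈ (P : Subgroup D) := fun x hx => by
    have h : φ x ∈ ((φ • P : Sylow 7 D) : Subgroup D) := by
      rw [Sylow.pointwise_smul_def]
      exact Subgroup.smul_mem_pointwise_smul x φ _ hx
    rwa [show φ • P = P from hP] at h
  obtain ⟨j, hj⟩ := IsPGroup.iff_card.1 P.2
  by_cases hcen : ∀ x ∈ (P : Subgroup D), φ x = x
  · -- `P` is centralised by `u`, so has order 7, and moves no point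
    have hle : (P : Subgroup D).map D.subtype ≤ Subgroup.centralizer ({u} : Set G) := by
      rintro _ ⟨x, hx, rfl⟩
      rw [Subgroup.mem_centralizer_singleton_iff]
      exact (mul_inv_eq_iff_eq_mul.1 (congrArg Subtype.val (hcen x hx))).symm
    have hconj : Nat.card (Subgroup.centralizer ({u} : Set G)) = Nat.card C := by
      have e : (C.map (MulAut.conj g).toMonoidHom) = Subgroup.centralizer ({u} : Set G) := by
        ext x
        rw [Invol.mem_map_conj_iff, hCdef, Subgroup.mem_centralizer_singleton_iff,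
          Subgroup.mem_centralizer_singleton_iff, hudef]
        constructor <;> intro h
        · calc x * (g * θ a * g⁻¹) = g * (g⁻¹ * x * g * θ a) * g⁻¹ := by group
            _ = g * (θ a * (g⁻¹ * x * g)) * g⁻¹ := by rw [h]
            _ = _ := by group
        · calc g⁻¹ * x * g * θ a = g⁻¹ * (x * (g * θ a * g⁻¹)) * g := by group
            _ = g⁻¹ * (g * θ a * g⁻¹ * x) * g := by rw [h]
            _ = _ := by group
      rw [← e, Subgroup.card_map_of_injective (MulAut.conj g).injective]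
    have hPdvd : 7 ^ j ∣ Nat.card C := by
      rw [← hj, ← hconj, ← Subgroup.card_map_of_injective D.subtype_injective]
      exact Subgroup.card_dvd_of_le hle
    have hj1 : j = 1 := by
      have h7D : 7 ∣ Nat.card D := hJ7.trans (Dvd.intro_left _ hDmul)
      have hj0 : j ≠ 0 := fun h0 => by
        rw [h0, pow_zero] at hj
        exact (P.not_dvd_index) (by
          have := (P : Subgroup D).card_mul_index
          rw [hj, one_mul] at this
          rwa [this])
      have hj2 : ¬ 2 ≤ j := fun h => hCard ((pow_dvd_pow 7 h).trans hPdvd)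
      omega
    rw [hj1, pow_one] at hj
    obtain ⟨x, hx⟩ := exists_prime_orderOf_dvd_card' (G := (P : Subgroup D)) 7 (by rw [hj])
    rw [← Subgroup.orderOf_coe, ← Subgroup.orderOf_coe] at hx
    obtain ⟨r, hr⟩ := (show ((x : D) : G) ∈ H from (x : D).2.1)
    obtain ⟨t, ht, htr⟩ := h7 r (by rwa [← orderOf_injective θ hθ, hr])
    obtain ⟨d, hd, hdt⟩ := Invol.se_inter_transitive hSE hu huH hz hzH
      ((orderOf_injective θ hθ t).trans ht) (⟨t, rfl⟩ : θ t ∈ H)
    set f : D := ⟨d, hd⟩⁻¹ * (x : D) * ⟨d, hd⟩ with hf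
    have hfC : f ∈ C.subgroupOf D := by
      rw [Subgroup.mem_subgroupOf, hCdef, Subgroup.mem_centralizer_singleton_iff]
      have hc : ((x : D) : G) * θ t = θ t * (x : D) := by
        rw [← hr, ← map_mul, ← map_mul, htr.eq]
      simp only [hf, Subgroup.coe_mul, InvMemClass.coe_inv]
      calc d⁻¹ * ((x : D) : G) * d * θ a = d⁻¹ * (((x : D) : G) * (d * θ a * d⁻¹)) * d := by group
        _ = d⁻¹ * ((d * θ a * d⁻¹) * (x : D)) * d := by rw [hdt, hc]
        _ = _ := by group
    have hfo : orderOf f = 7 := by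
      rw [hf, show (⟨d, hd⟩ : D)⁻¹ * (x : D) * ⟨d, hd⟩ = MulAut.conj (⟨d, hd⟩ : D)⁻¹ (x : D) by simp,
        MulEquiv.orderOf_eq, ← Subgroup.orderOf_coe]
      exact hx
    have h7S : 7 ∣ Nat.card (C.subgroupOf D) := by
      rw [← hfo, ← Subgroup.orderOf_mk f hfC]
      exact orderOf_dvd_natCard _
    have h49 : 7 ^ 2 ∣ Nat.card D := hDmul ▸ (pow_two 7).symm ▸ mul_dvd_mul h7S hJ7
    refine P.not_dvd_index ?_
    have hmul := (P : Subgroup D).card_mul_index
    rw [hj] at hmul
    rw [← hmul, pow_two] at h49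
    exact Nat.dvd_of_mul_dvd_mul_left (by norm_num) h49
  · push Not at hcen
    obtain ⟨x, hxP, hx⟩ := hcen
    set f : D := x * (φ x)⁻¹ with hf
    have hfne : f ≠ 1 := fun h => hx (mul_inv_eq_one.1 h).symm
    have hfinv : φ f = f⁻¹ := by
      rw [hf, map_mul, map_inv, show φ (φ x) = x from Subtype.ext (huu x), mul_inv_rev, inv_inv]
    have hfP : f ∈ (P : Subgroup D) := mul_mem hxP (inv_mem (hφP x hxP))
    obtain ⟨k, hk⟩ := IsPGroup.iff_orderOf.1 P.2 ⟨f, hfP⟩
    rw [Subgroup.orderOf_mk] at hk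
    have hk0 : k ≠ 0 := fun h => hfne (orderOf_eq_one_iff.1 (by rw [hk, h, pow_zero]))
    set f' : D := f ^ (7 ^ (k - 1)) with hf'
    have hf'o : orderOf ((f' : D) : G) = 7 := by
      rw [Subgroup.orderOf_coe, hf', orderOf_pow, hk,
        Nat.gcd_eq_right (pow_dvd_pow 7 (Nat.sub_le k 1)), Nat.pow_div (Nat.sub_le k 1) (by norm_num),
        Nat.sub_sub_self (Nat.one_le_iff_ne_zero.2 hk0), pow_one]
    have hinv' : u * (f' : G) * u⁻¹ = (f' : G)⁻¹ := by
      have : φ f' = f'⁻¹ := by rw [hf', map_pow, hfinv, inv_pow]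
      exact congrArg Subtype.val this
    obtain ⟨r, hr⟩ := (show (f' : G) ∈ H from f'.2.1)
    obtain ⟨t, ht, htr⟩ := h7 r (by rwa [← orderOf_injective θ hθ, hr])
    have h := no_inverted hSE ((orderOf_injective θ hθ t).trans ht) ⟨t, rfl⟩ hu huH
      (by rw [← hr, ← map_mul, ← map_mul, htr.eq]) hinv'
    have h2 : orderOf (f' : G) ∣ 2 := orderOf_dvd_of_pow_eq_one (by rw [pow_two]; exact h)
    rw [hf'o] at h2
    norm_num at h2

end Cfsg.Agent.ThEnd
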