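import Cfsg.Agent.ThEnd.Main
import Cfsg.Agent.ThLocal.Main

/-!
# The presented Thompson group maps onto a group with its centraliser and one more element

An image of the presented centraliser and an element `b` satisfying the relators in which `b`
occurs give a homomorphism of the presented Thompson group, and this is an isomorphism.
-/

set_option autoImplicit false
set_option maxRecDepth 100000

namespace Cfsg.Agent.ThEnd

open Cfsg.Agent.DCoset Cfsg.Agent.ThCent
open Cfsg.Spor.Th (Gen)

/-- The generator of the centraliser of a generator of Th other than `b`. -/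
def back : Gen → Fin 7
  | .a => 0
  | .b => 0
  | .c => 1
  | .d => 2
  | .e => 3
  | .s => 4
  | .t => 5
  | .u => 6

theorem thGen_back : ∀ g : Gen, g ≠ .b → thGen (back g) = g := by
  intro g hg; cases g <;> first | exact absurd rfl hg | rfl

/-- The letter `b` does not occur. -/
def noB (r : FreeGroup Gen) : Bool := r.toWord.all fun x => decide (x.1 ≠ Gen.b)

variable {G : Type*} [Group G]

/-- The values of the generators. -/
def genVal (f : PC →* G) (b : G) : Gen → G
  | .b => b
  | g => f (PresentedGroup.of (back g))

theorem rel_ok (f : PC →* G) (b : G) (hker : toTh.ker ≤ f.ker)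
    (hb : ∀ r ∈ Spor.Th.extra, noB r = false → FreeGroup.lift (genVal f b) r = 1) :
    ∀ r ∈ Th.thRels, FreeGroup.lift (genVal f b) r = 1 := by
  intro r hr
  have hr' : r ∈ Spor.Th.extra := by
    rcases hr with ⟨x, hx, -⟩ | hr
    · exact absurd hx (by simp [Spor.coxNodes, Spor.Th.edges])
    · exact hr
  cases hn : noB r
  · exact hb r hr' hn
  set w := r.toWord.map fun x => (back x.1, x.2) with hw
  have hall : ∀ x ∈ r.toWord, x.1 ≠ Gen.b := fun x hx =>
    of_decide_eq_true (List.all_eq_true.1 hn x hx)
  have hr2 : FreeGroup.map thGen (FreeGroup.mk w) = r := by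
    rw [FreeGroup.map.mk, hw, List.map_map]
    conv_rhs => rw [← FreeGroup.mk_toWord (x := r)]
    congr 1
    refine (List.map_congr_left fun x hx => ?_).trans (List.map_id _)
    show (thGen (back x.1), x.2) = x
    rw [thGen_back x.1 (hall x hx)]
  have e1 : toTh.comp (PresentedGroup.mk (CosetCert.wordRels CPC.relWords)) =
      (PresentedGroup.mk _).comp (FreeGroup.map thGen) := by
    apply FreeGroup.ext_hom
    intro i
    exact (toTh_of i).trans (by simp [PresentedGroup.of])
  have h1 : toTh (PresentedGroup.mk _ (FreeGroup.mk w)) = 1 := by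
    rw [← MonoidHom.comp_apply, e1, MonoidHom.comp_apply, hr2]
    exact PresentedGroup.one_of_mem (Or.inr hr')
  have h2 : f (PresentedGroup.mk _ (FreeGroup.mk w)) = 1 := hker h1
  have e2 : (FreeGroup.lift (genVal f b)).comp (FreeGroup.map thGen) =
      f.comp (PresentedGroup.mk (CosetCert.wordRels CPC.relWords)) := by
    apply FreeGroup.ext_hom
    intro i
    rw [MonoidHom.comp_apply, MonoidHom.comp_apply, FreeGroup.map.of, FreeGroup.lift_apply_of]
    fin_cases i <;> rfl
  rw [← hr2, ← MonoidHom.comp_apply, e2, MonoidHom.comp_apply, h2]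

/-- The isomorphism, given an element satisfying the relators with `b`. -/
theorem iso_of_rels [Finite G] {z : G} (h : ThLocal.Hyp z) (f : PC →* G)
    (hf : f (PresentedGroup.of 0) = z) (hrange : f.range = Subgroup.centralizer ({z} : Set G))
    (hker : toTh.ker ≤ f.ker) (b : G)
    (hb : ∀ r ∈ Spor.Th.extra, noB r = false → FreeGroup.lift (genVal f b) r = 1) :
    Spor.IsoTh G := by
  let θ : Spor.Th →* G := PresentedGroup.toGroup (rel_ok f b hker hb)
  have hθ : ∀ i : Fin 7, θ (toTh (PresentedGroup.of i)) = f (PresentedGroup.of i) := fun i => by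
    rw [toTh_of]
    refine (PresentedGroup.toGroup.of (rel_ok f b hker hb)).trans ?_
    fin_cases i <;> rfl
  have hcomp : θ.comp toTh = f := PresentedGroup.ext hθ
  have ha : θ aE = z := by
    rw [← hf, ← hθ 0, toTh_of]; rfl
  have hC : Subgroup.centralizer ({θ aE} : Set G) ≤ θ.range := by
    rw [ha, ← hrange, ← hcomp, MonoidHom.range_comp]
    exact Subgroup.map_le_range _ _
  have hcard : Nat.card (Subgroup.centralizer ({θ aE} : Set G)) = 92897280 := by
    rw [ha]
    obtain ⟨e⟩ := h.quot
    rw [Subgroup.card_eq_card_quotient_mul_card_subgroup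
      (Cfsg.pCore 2 ↥(Subgroup.centralizer ({z} : Set G))), h.card, Nat.card_congr e.toEquiv,
      ThLocal.card_a9]
    norm_num
  have hne : θ aE ≠ 1 := by
    rw [ha]; intro h1
    have := h.ord
    rw [h1, orderOf_one] at this
    omega
  exact ⟨(MulEquiv.ofBijective θ (surjective ThLocal.th_conj θ hC hne hcard)).symm⟩

/-- What the statements say about a group isomorphic to the presented one. -/
theorem facts [Finite G] (h : Spor.IsoTh G) :
    IsSimpleGroup G ∧ Nat.card G = 90745943887872000 ∧
      (∀ x y : G, orderOf x = 2 → orderOf y = 2 → IsConj x y) ∧ Cfsg.IsTh G := by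
  obtain ⟨e⟩ := id h
  have hc : Nat.card G = 90745943887872000 :=
    (Nat.card_congr e.toEquiv).trans (Th.exact_of_big Th.big).1
  have hs : IsSimpleGroup G :=
    have := Th.simple_of_big Th.big
    e.isSimpleGroup
  refine ⟨hs, hc, fun x y hx hy => ?_, hs, hc⟩
  have key : ∀ x : G, orderOf x = 2 → IsConj x (e.symm aE) := fun x hx => by
    have := MonoidHom.map_isConj e.symm.toMonoidHom
      (ThLocal.th_conj (e x) ((MulEquiv.orderOf_eq e x).trans hx))
    simpa using this
  exact (key x hx).trans (key y hy).symm

end Cfsg.Agent.ThEnd
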